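import Groth.Agent.Lib.SplitTors24.Quot
import Groth.Agent.Lib.FibreLocus.Hom
import Groth.Agent.Lib.GrpLim14.Torsor
import Groth.Agent.Lib.DiagGrp.FreeGraph
import Groth.Agent.S11894

/-!
# Torsors under connected commutative linear groups over an extension of an algebraically closed field have points
-/

set_option autoImplicit false
set_option linter.all false
set_option backward.isDefEq.respectTransparency false

universe u

open CategoryTheory CategoryTheory.Limits MonoidalCategory CartesianMonoidalCategory MonObj GrpObj AlgebraicGeometry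

namespace GrothLib.SplitTors24

open GrothLib.MultHopf14

/-- Base change of an action. -/
noncomputable def bcAct {S S' : Scheme.{u}} (f : S' ⟶ S) {G X : Over S} [GrpObj G] (a : AlgGrp.Action G X) :
    AlgGrp.Action (Red.bc f G) (Red.bc f X) where
  act := Functor.LaxMonoidal.μ (Over.pullback f) G X ≫ (Over.pullback f).map a.act
  one_act := by
    rw [Functor.obj.η_def, MonoidalCategory.comp_whiskerRight, Category.assoc,
      Functor.LaxMonoidal.μ_natural_left_assoc, ← (Over.pullback f).map_comp, a.one_act,
      Functor.LaxMonoidal.left_unitality]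
  mul_act := by
    rw [Functor.obj.μ_def, MonoidalCategory.comp_whiskerRight, Category.assoc,
      Functor.LaxMonoidal.μ_natural_left_assoc, ← (Over.pullback f).map_comp, a.mul_act,
      (Over.pullback f).map_comp, (Over.pullback f).map_comp,
      Functor.LaxMonoidal.associativity_assoc, MonoidalCategory.whiskerLeft_comp, Category.assoc,
      Functor.LaxMonoidal.μ_natural_right_assoc]

/-- Base change of a torsor is a torsor. -/
theorem isIso_bcAct {S S' : Scheme.{u}} (f : S' ⟶ S) {G X : Over S} [GrpObj G] (a : AlgGrp.Action G X)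
    (h : IsIso (lift a.act (snd G X))) : IsIso (lift (bcAct f a).act (snd (Red.bc f G) (Red.bc f X))) :=
  (GrothLib.GrpLim14.isIso_shear_iff f a.act).2 inferInstance

/-- Restricting a torsor along an isomorphism of groups gives a torsor. -/
theorem isIso_restrict {S : Scheme.{u}} {G G' X : Over S} [GrpObj G] [GrpObj G'] (e : G' ≅ G) [IsMonHom e.hom]
    (a : AlgGrp.Action G X) (h : IsIso (lift a.act (snd G X))) :
    IsIso (lift (a.restrict e.hom).act (snd G' X)) := by
  have h : lift (a.restrict e.hom).act (snd G' X) = (e.hom ▷ X) ≫ lift a.act (snd G X) := by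
    rw [comp_lift, whiskerRight_snd]; rfl
  rw [h]; infer_instance

/-- Base change preserves kernels. -/
theorem isKernel_bc {S S' : Scheme.{u}} (t : S' ⟶ S) {N G Q : Over S} [GrpObj Q] {i : N ⟶ G} {j : G ⟶ Q}
    (hK : AlgGrp.IsKernel i j) :
    AlgGrp.IsKernel ((Over.pullback t).map i) ((Over.pullback t).map j) := by
  have h := IsPullback.map (Over.pullback t) hK
  let e := Functor.Monoidal.εIso (Over.pullback t)
  refine IsPullback.of_iso h (Iso.refl _) (Iso.refl _) e.symm (Iso.refl _) ?_ ?_ ?_ ?_
  · exact (Category.comp_id _).trans (Category.id_comp _).symm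
  · exact Subsingleton.elim _ _
  · exact (Category.comp_id _).trans (Category.id_comp _).symm
  · rw [Functor.obj.η_def]
    show (Over.pullback t).map η ≫ 𝟙 _ = e.inv ≫ e.hom ≫ _
    rw [Iso.inv_hom_id_assoc, Category.comp_id]

theorem property_bc_map (P : MorphismProperty Scheme.{u}) [P.IsStableUnderBaseChange] {S S' : Scheme.{u}}
    (f : S' ⟶ S) {A B : Over S} (j : A ⟶ B) (h : P j.left) : P ((Over.pullback f).map j).left :=
  MorphismProperty.of_isPullback (GrothLib.FibreLocus.isPullback_map_left j f).flip h

variable {k : Type u} [Field k]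

local notation "S₀" => Spec (CommRingCat.of k)

/-- The point property for a group over a field extension. -/
def HasPoints {K : Type u} [Field K] (G : Over (Spec (CommRingCat.of K))) [GrpObj G] : Prop :=
  ∀ (X : Over (Spec (CommRingCat.of K))) (a : AlgGrp.Action G X), Nonempty ↥X.left →
    IsPullback a.act (snd G X) (toUnit X) (toUnit X) → Nonempty (𝟙_ (Over (Spec (CommRingCat.of K))) ⟶ X)

theorem hasPoints_of_isIso {K : Type u} [Field K] (G : Over (Spec (CommRingCat.of K))) [GrpObj G]
    [hG : IsIso G.hom] : HasPoints G := by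
  intro X a hX hcart
  haveI := hX
  haveI : IsIso (toUnit G) := by
    haveI : IsIso (toUnit G).left := by
      have e : (toUnit G).left = G.hom := (Category.comp_id _).symm.trans (Over.w (toUnit G))
      rw [e]; infer_instance
    haveI : IsIso ((Over.forget _).map (toUnit G)) := ‹_›
    exact isIso_of_reflects_iso _ (Over.forget _)
  have hh : η[G] = inv (toUnit G) := by
    rw [← cancel_mono (toUnit G), IsIso.inv_hom_id]
    exact Subsingleton.elim _ _
  haveI : IsIso η[G] := by rw [hh]; infer_instance
  have hact : a.act = snd G X := by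
    rw [← cancel_epi (η[G] ▷ X), a.one_act, whiskerRight_snd, leftUnitor_hom]
  haveI : Mono (toUnit X) := by
    refine ⟨fun {T} u v _ => ?_⟩
    have e1 := hcart.lift_fst u v (Subsingleton.elim _ _)
    have e2 := hcart.lift_snd u v (Subsingleton.elim _ _)
    exact e1.symm.trans ((congrArg (hcart.lift u v (Subsingleton.elim _ _) ≫ ·) hact).trans e2)
  haveI : Flat G.hom := inferInstance
  obtain ⟨haff, hfl, hsj⟩ := GrothLib.CartTorsor.affine_flat hcart (Groth.Agent.S11894.isLocallyTrivialFor_of_nonempty X)
  haveI : Mono (toUnit X).left := inferInstanceAs (Mono ((Over.forget _).map (toUnit X)))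
  haveI := Flat.isIso_of_surjective_of_mono (toUnit X).left
  haveI : IsIso ((Over.forget _).map (toUnit X)) := ‹IsIso (toUnit X).left›
  haveI : IsIso (toUnit X) := isIso_of_reflects_iso _ (Over.forget _)
  exact ⟨inv (toUnit X)⟩

variable [IsAlgClosed k]

/-- Every torsor under a connected commutative linear group over a field extension has a rational point. -/
theorem hasPoints_bc {K : Type u} [Field K] (σ : Spec (CommRingCat.of K) ⟶ S₀)
    (L : Over S₀) [GrpObj L] [IsCommMonObj L] [Smooth L.hom] [ConnectedSpace ↥L.left] [IsAffine L.left] :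
    HasPoints (Red.bc σ L) := by
  classical
  haveI : IsLocallyNoetherian L.left := LocallyOfFiniteType.isLocallyNoetherian L.hom
  haveI : IsNoetherian L.left := {}
  suffices H : ∀ (Z : TopologicalSpace.Closeds L.left), ∀ (N : Over S₀) [GrpObj N] [IsCommMonObj N] [Smooth N.hom]
      [ConnectedSpace ↥N.left] [IsAffine N.left] (j : N ⟶ L), IsClosedImmersion j.left →
      Set.range j.left = (Z : Set L.left) → HasPoints (Red.bc σ N) by
    refine H ⊤ L (𝟙 L) (inferInstanceAs (IsClosedImmersion (𝟙 L.left))) ?_
    exact Set.range_eq_univ.2 fun x => ⟨x, rfl⟩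
  intro Z
  induction Z using WellFoundedLT.induction with
  | ind Z ih =>
    intro N _ _ _ _ _ j hj hZ
    haveI := hj
    haveI := IsogGaGm24.isIntegral_of_smooth N
    by_cases hN : Subsingleton N.left
    · haveI : Subsingleton ↥(𝟙_ (Over S₀)).left := inferInstanceAs (Subsingleton (PrimeSpectrum k))
      haveI : IsClosedImmersion η[N].left := by
        haveI : IsClosedImmersion (η[N].left ≫ N.hom) := by
          rw [Over.w]; exact inferInstanceAs (IsClosedImmersion (𝟙 S₀))
        haveI : IsSeparated N.hom := GrothLib.GrpSchField.isSeparated N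
        exact IsClosedImmersion.of_comp _ N.hom
      haveI : Surjective η[N].left := ⟨fun z => ⟨IsLocalRing.closedPoint k, Subsingleton.elim _ _⟩⟩
      haveI := isIso_of_isClosedImmersion_of_surjective η[N].left
      haveI : IsIso N.hom := by
        haveI : IsIso (η[N].left ≫ N.hom) := by rw [Over.w]; exact inferInstanceAs (IsIso (𝟙 S₀))
        exact IsIso.of_isIso_comp_left η[N].left N.hom
      haveI : IsIso (Red.bc σ N).hom :=
        MorphismProperty.pullback_snd (P := MorphismProperty.isomorphisms Scheme) N.hom σ ‹_›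
      exact hasPoints_of_isIso _
    obtain ⟨N', _, _, i, Q, _, q, _, _, _, _, _, hne, _, hqf, hqs, hker, hQ⟩ := exists_step N hN
    have hlt : (⟨Set.range (i ≫ j).left, by
        haveI : IsClosedImmersion (i ≫ j).left := by rw [Over.comp_left]; infer_instance
        exact (i ≫ j).left.isClosedEmbedding.isClosed_range⟩ : TopologicalSpace.Closeds L.left) < Z := by
      rw [← SetLike.coe_ssubset_coe]
      show Set.range (i ≫ j).left ⊂ (Z : Set L.left)
      rw [← hZ, Over.comp_left, Scheme.Hom.comp_base, TopCat.coe_comp, Set.range_comp,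
        ← Set.image_univ (f := j.left)]
      refine j.left.isClosedEmbedding.injective.image_strictMono ?_
      exact Set.ssubset_univ_iff.2 hne
    have hN' : HasPoints (Red.bc σ N') :=
      ih _ hlt N' (i ≫ j) (by rw [Over.comp_left]; infer_instance) rfl
    -- the base change
    let F := Over.pullback σ
    let B := Red.bc σ N
    let B' := Red.bc σ N'
    let Q' := Red.bc σ Q
    haveI : IsAffineHom B.hom := MorphismProperty.pullback_snd N.hom σ (isAffineHom_of_isAffine _)
    haveI : IsAffineHom B'.hom := MorphismProperty.pullback_snd N'.hom σ (isAffineHom_of_isAffine _)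
    haveI : Smooth B.hom := MorphismProperty.pullback_snd N.hom σ ‹_›
    haveI : LocallyOfFinitePresentation B.hom := inferInstance
    haveI : Flat B.hom := inferInstance
    haveI : Flat B'.hom := GrothLib.AlgSp.flat_to_field _
    have hQ' : Nonempty (Grp.mk Q' ≅ Grp.mk (Red.Ga (Spec (CommRingCat.of K)))) ∨
        Nonempty (Grp.mk Q' ≅ Grp.mk (Red.Gm (Spec (CommRingCat.of K)))) := by
      have hterm : σ ≫ Limits.IsTerminal.from specULiftZIsTerminal S₀ =
          Limits.IsTerminal.from specULiftZIsTerminal _ := specULiftZIsTerminal.hom_ext _ _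
      rcases hQ with ⟨⟨e⟩⟩ | ⟨⟨e⟩⟩
      · exact Or.inl ⟨((Over.pullback σ).mapGrp.mapIso e).trans
          (GrothLib.DiagGrp.bcGrpComp Red.GaZ (Limits.IsTerminal.from specULiftZIsTerminal S₀) σ
            (Limits.IsTerminal.from specULiftZIsTerminal _) hterm.symm).symm⟩
      · exact Or.inr ⟨((Over.pullback σ).mapGrp.mapIso e).trans
          (GrothLib.DiagGrp.bcGrpComp (Red.diag (ULift.{u} ℤ) ℤ) (Limits.IsTerminal.from specULiftZIsTerminal S₀) σ
            (Limits.IsTerminal.from specULiftZIsTerminal _) hterm.symm).symm⟩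
    haveI : IsAffine Q.left := by
      obtain ⟨_, _⟩ := Groth.Agent.S6006.flat_gaZ.{u}
      rcases hQ with ⟨⟨e⟩⟩ | ⟨⟨e⟩⟩
      · haveI : IsAffine (Red.Ga S₀).left := inferInstanceAs (IsAffine (Limits.pullback Red.GaZ.hom _))
        let e' : Q ≅ Red.Ga S₀ := (Grp.forget _).mapIso e
        haveI : IsIso e'.hom.left := (Over.forget _).map_isIso _
        exact .of_isIso e'.hom.left
      · haveI : IsAffine (Red.diag (ULift.{u} ℤ) ℤ).left := isAffine_Spec _
        haveI : IsAffine (Red.Gm S₀).left :=
          inferInstanceAs (IsAffine (Limits.pullback (Red.diag (ULift.{u} ℤ) ℤ).hom _))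
        let e' : Q ≅ Red.Gm S₀ := (Grp.forget _).mapIso e
        haveI : IsIso e'.hom.left := (Over.forget _).map_isIso _
        exact .of_isIso e'.hom.left
    haveI : IsAffineHom Q'.hom := MorphismProperty.pullback_snd Q.hom σ (isAffineHom_of_isAffine _)
    let qb : B ⟶ Q' := F.map q
    let ib : B' ⟶ B := F.map i
    haveI : IsMonHom qb := inferInstanceAs (IsMonHom ((Over.pullback σ).map q))
    haveI : IsMonHom ib := inferInstanceAs (IsMonHom ((Over.pullback σ).map i))
    haveI : Flat qb.left := property_bc_map @Flat σ q hqf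
    haveI : Surjective qb.left := property_bc_map @Surjective σ q hqs
    haveI : IsAffineHom qb.left := property_bc_map @IsAffineHom σ q inferInstance
    have hkb : AlgGrp.IsKernel ib qb := isKernel_bc σ hker
    intro X a hX hcart
    haveI := hX
    obtain ⟨W, b, π₁, r, -, hb, -, hπ, hπloc⟩ :=
      GrothLib.CartTorsor.exists_factor (G := B) (a := a) hkb hcart
        (Groth.Agent.S11894.isLocallyTrivialFor_of_nonempty X)
    rw [Subsingleton.elim r (toUnit W)] at hb
    haveI : Nonempty ↥W.left := ⟨π₁.left (Classical.arbitrary _)⟩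
    obtain ⟨w⟩ := Groth.Agent.S11894.exists_point_of_Ga_or_Gm b hQ' hb
    obtain ⟨-, -, hsj⟩ := GrothLib.CartTorsor.affine_flat hπ hπloc
    haveI := hsj
    obtain ⟨F', hF, bF, jF, hcartF⟩ := Groth.Agent.S11894.exists_fibre _ π₁ hπ w
    obtain ⟨pt⟩ := hN' F' bF hF hcartF
    exact ⟨pt ≫ jF⟩

/-- A principal bundle under a connected commutative linear group over an integral base has a generic section. -/
theorem exists_generic_section (L : Over S₀) [GrpObj L] [IsCommMonObj L] [Smooth L.hom]
    [ConnectedSpace ↥L.left] [IsAffine L.left] {X Y : Scheme.{u}} (qY : Y ⟶ S₀) [IsIntegral Y]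
    (π : X ⟶ Y) [Surjective π] [LocallyOfFiniteType π]
    (a : AlgGrp.Action (Red.bc qY L) (Over.mk π))
    (htors : IsIso (lift a.act (snd (Red.bc qY L) (Over.mk π)))) :
    ∃ U : Y.Opens, (U : Set ↥Y).Nonempty ∧ ∃ s : (↑U : Scheme.{u}) ⟶ X, s ≫ π = U.ι := by
  let x := genericPoint Y
  let K : Type u := Y.residueField x
  let f : Spec (CommRingCat.of K) ⟶ Y := Y.fromSpecResidueField x
  let e := GrothLib.DiagGrp.bcGrpComp L qY f (f ≫ qY) rfl
  let e' : Red.bc (f ≫ qY) L ≅ Red.bc f (Red.bc qY L) := (Grp.forget _).mapIso e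
  haveI : IsMonHom e'.hom := e.hom.hom.isMonHom_hom
  haveI : Nonempty ↥(Red.bc f (Over.mk π)).left := by
    obtain ⟨y, hy⟩ := π.surjective x
    obtain ⟨z, -, -⟩ := Scheme.Pullback.exists_preimage_pullback (f := π) (g := f) y (IsLocalRing.closedPoint K)
      (by rw [hy]; exact (Y.fromSpecResidueField_apply x _).symm)
    exact ⟨z⟩
  obtain ⟨p⟩ := hasPoints_bc (f ≫ qY) L _ ((bcAct f a).restrict e'.hom) inferInstance
    ((Groth.Agent.S11894.isPullback_toUnit_iff _).2 (isIso_restrict e' _ (isIso_bcAct f a htors)))
  have hp : p.left ≫ pullback.fst π f ≫ π = f := by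
    rw [pullback.condition]
    exact (Category.assoc _ _ _).symm.trans
      ((congrArg (· ≫ f) (Over.w p)).trans (Category.id_comp _))
  -- the stalk at the generic point is the function field
  have hfld : IsField (Y.presheaf.stalk x) := Field.toIsField Y.functionField
  haveI : IsIso (Y.residue x) := by
    rw [ConcreteCategory.isIso_iff_bijective]
    refine ⟨?_, Y.residue_surjective x⟩
    letI := hfld.toField
    exact RingHom.injective (Y.residue x).hom
  let φ : Spec (Y.presheaf.stalk x) ⟶ X :=
    inv (Spec.map (Y.residue x)) ≫ p.left ≫ pullback.fst π f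
  have hφ : φ ≫ π = Y.fromSpecStalk x ≫ 𝟙 Y := by
    rw [Category.comp_id]
    simp only [φ, Category.assoc]
    rw [IsIso.inv_comp_eq]
    exact hp
  obtain ⟨U, hxU, s, -, hs⟩ := spread_out_of_isGermInjective' (sX := 𝟙 Y) (sY := π) φ hφ
  exact ⟨U, ⟨x, hxU⟩, s, by rw [hs, Category.comp_id]⟩

end GrothLib.SplitTors24
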