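import Groth.Agent.Lib.MultHopf14.ToScheme
import Mathlib.RingTheory.Bialgebra.SymmetricAlgebra
import Mathlib.RingTheory.Bialgebra.Equiv
import Groth.Prelude.Def_Red2
import Mathlib.RingTheory.HopfAlgebra.TensorProduct
import Mathlib.RingTheory.TensorProduct.Maps

/-!
# The additive and multiplicative groups as groups of Hopf algebras
-/

set_option autoImplicit false
set_option linter.all false
set_option backward.isDefEq.respectTransparency false

universe u

open CategoryTheory CategoryTheory.Limits MonoidalCategory CartesianMonoidalCategory MonObj GrpObj AlgebraicGeometry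
open scoped TensorProduct

namespace GrothLib.SplitTors24

open GrothLib.MultHopf14 GrothLib.MultDef14

variable {k : Type u} [Field k]

theorem exists_bialgEquiv_sym (Z : Type u) [CommRing Z] [Algebra Z k] :
    Nonempty (SymmetricAlgebra k k ≃ₐc[k] (k ⊗[Z] SymmetricAlgebra Z Z)) := by
  let B := k ⊗[Z] SymmetricAlgebra Z Z
  let x : B := (1 : k) ⊗ₜ[Z] SymmetricAlgebra.ι Z Z (1 : Z)
  let f : SymmetricAlgebra k k →ₐ[k] B := SymmetricAlgebra.lift (LinearMap.toSpanSingleton k B x)
  have hf : f (SymmetricAlgebra.ι k k 1) = x := by simp [f]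
  have h2 : (Algebra.TensorProduct.map f f).comp (Bialgebra.comulAlgHom k (SymmetricAlgebra k k)) =
      (Bialgebra.comulAlgHom k B).comp f := by
      refine @SymmetricAlgebra.algHom_ext k k _ _ _ (B ⊗[k] B) _ _ _ _ ?_
      apply LinearMap.ext_ring
      change Algebra.TensorProduct.map f f (Coalgebra.comul (R := k) (SymmetricAlgebra.ι k k (1 : k))) =
        Coalgebra.comul (R := k) (f (SymmetricAlgebra.ι k k 1))
      rw [SymmetricAlgebra.comul_ι, map_add, Algebra.TensorProduct.map_tmul, Algebra.TensorProduct.map_tmul,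
        hf, map_one]
      show ((1 : k) ⊗ₜ[Z] SymmetricAlgebra.ι Z Z (1 : Z)) ⊗ₜ[k] (1 : B) +
        (1 : B) ⊗ₜ[k] ((1 : k) ⊗ₜ[Z] SymmetricAlgebra.ι Z Z (1 : Z)) =
          Coalgebra.comul (R := k) ((1 : k) ⊗ₜ[Z] SymmetricAlgebra.ι Z Z (1 : Z))
      rw [TensorProduct.comul_def]
      simp [SymmetricAlgebra.comul_ι, TensorProduct.tmul_add, Algebra.TensorProduct.one_def, B]
  let φ : SymmetricAlgebra k k →ₐc[k] B := BialgHom.ofAlgHom f
    (SymmetricAlgebra.algHom_ext (LinearMap.ext_ring (by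
      change Coalgebra.counit (R := k) (f (SymmetricAlgebra.ι k k 1)) =
        Coalgebra.counit (R := k) (SymmetricAlgebra.ι k k (1 : k))
      rw [hf, SymmetricAlgebra.counit_ι]
      show Coalgebra.counit (R := k) ((1 : k) ⊗ₜ[Z] SymmetricAlgebra.ι Z Z (1 : Z)) = 0
      rw [TensorProduct.counit_def]
      simp [SymmetricAlgebra.counit_ι])))
    h2
  letI : Algebra Z (SymmetricAlgebra k k) := ((algebraMap k (SymmetricAlgebra k k)).comp (algebraMap Z k)).toAlgebra
  haveI : IsScalarTower Z k (SymmetricAlgebra k k) := IsScalarTower.of_algebraMap_eq fun _ => rfl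
  let g : B →ₐ[k] SymmetricAlgebra k k := Algebra.TensorProduct.lift (Algebra.ofId k _)
    (SymmetricAlgebra.lift (LinearMap.toSpanSingleton Z (SymmetricAlgebra k k) (SymmetricAlgebra.ι k k 1)))
    fun _ _ => Commute.all _ _
  have hgf : g.comp f = AlgHom.id k _ := SymmetricAlgebra.algHom_ext (LinearMap.ext_ring (by
    change g (f (SymmetricAlgebra.ι k k 1)) = SymmetricAlgebra.ι k k 1
    rw [hf]
    simp only [g, x]
    erw [Algebra.TensorProduct.lift_tmul]
    simp))
  have hfg : f.comp g = AlgHom.id k _ := by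
    refine Algebra.TensorProduct.ext (Subsingleton.elim _ _) ?_
    apply SymmetricAlgebra.algHom_ext
    apply LinearMap.ext_ring
    change f (g ((1 : k) ⊗ₜ[Z] SymmetricAlgebra.ι Z Z (1 : Z))) = x
    rw [← hf]
    congr 1
    simp only [g]
    erw [Algebra.TensorProduct.lift_tmul]
    simp
  exact ⟨BialgEquiv.ofBijective φ ⟨Function.LeftInverse.injective (g := g) (AlgHom.congr_fun hgf),
    Function.RightInverse.surjective (g := g) (AlgHom.congr_fun hfg)⟩⟩

theorem iso_sym_bc (Z : Type u) [CommRing Z] [Algebra Z k] :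
    Nonempty (Grp.mk (specGrp (R := k) (SymmetricAlgebra k k)) ≅
      Grp.mk (Red.bc (Spec.map (CommRingCat.ofHom (algebraMap Z k))) (specGrp (R := Z) (SymmetricAlgebra Z Z)))) := by
  obtain ⟨φ⟩ := exists_bialgEquiv_sym (k := k) Z
  obtain ⟨e₁⟩ := bcGrp_specGrp (R := Z) k (SymmetricAlgebra Z Z)
  obtain ⟨e₂⟩ := grpIso_of_bialgEquiv (R := k) (A := SymmetricAlgebra k k) (B := k ⊗[Z] SymmetricAlgebra Z Z) φ
  exact ⟨e₂.symm ≪≫ e₁.symm⟩

/-- The additive group is the group of the symmetric algebra. -/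
theorem iso_Ga : Nonempty (Grp.mk (specGrp (R := k) (SymmetricAlgebra k k)) ≅
    Grp.mk (Red.Ga (Spec (CommRingCat.of k)))) := by
  letI : Algebra (ULift.{u} ℤ) k := ((Int.castRingHom k).comp (ULift.ringEquiv (R := ℤ)).toRingHom).toAlgebra
  obtain ⟨e⟩ := iso_sym_bc (k := k) (ULift.{u} ℤ)
  have ht : Limits.IsTerminal.from specULiftZIsTerminal (Spec (CommRingCat.of k)) =
      Spec.map (CommRingCat.ofHom (algebraMap (ULift.{u} ℤ) k)) := specULiftZIsTerminal.hom_ext _ _
  exact ⟨e ≪≫ eqToIso (by rw [← ht])⟩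

/-- The multiplicative group is the group of the Laurent polynomials. -/
theorem iso_Gm : Nonempty (Grp.mk (specGrp (R := k) (MonoidAlgebra k (Multiplicative ℤ))) ≅
    Grp.mk (Red.Gm (Spec (CommRingCat.of k)))) := by
  haveI := isMonHom_diagToDS k ℤ
  haveI := isIso_diagToDS k ℤ
  exact ⟨Grp.mkIso (asIso (diagToDS k ℤ)) (IsMonHom.one_hom _) (IsMonHom.mul_hom _)⟩

end GrothLib.SplitTors24
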