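import Groth.Agent.Lib.SplitTors24.Bridge
import Groth.Agent.Lib.DimOne16.Classify
import Groth.Agent.S7976
import Groth.Agent.Lib.CharFG28.GroupLike
import Groth.Agent.Lib.Dim.Ring
import Mathlib.RingTheory.KrullDimension.Polynomial
import Mathlib.Algebra.Polynomial.Laurent

/-!
# Coordinates: a non-trivial commutative affine group maps onto a one-dimensional split group
-/

set_option autoImplicit false
set_option linter.all false

universe u

open TensorProduct Polynomial

namespace GrothLib.SplitTors24

variable (k : Type u) [Field k]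

/-- The coordinate rings of the two split one-dimensional groups. -/
def IsLine (C : Type u) [CommRing C] [HopfAlgebra k C] : Prop :=
  Nonempty (C ≃ₐc[k] SymmetricAlgebra k k) ∨ Nonempty (C ≃ₐc[k] MonoidAlgebra k (Multiplicative ℤ))

theorem dim_sym_le : ringKrullDim (SymmetricAlgebra k k) ≤ 1 := by
  have e : SymmetricAlgebra k k ≃ₐ[k] MvPolynomial (Fin 1) k :=
    SymmetricAlgebra.equivMvPolynomial (Module.Basis.singleton (Fin 1) k)
  rw [ringKrullDim_eq_of_ringEquiv e.toRingEquiv, MvPolynomial.ringKrullDim_of_isNoetherianRing,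
    ringKrullDim_eq_zero_of_field, zero_add, Nat.card_fin]
  exact le_rfl

theorem dim_laurent_le : ringKrullDim (MonoidAlgebra k (Multiplicative ℤ)) ≤ 1 := by
  let e : MonoidAlgebra k (Multiplicative ℤ) ≃ₐ[k] LaurentPolynomial k :=
    (MonoidAlgebra.toAdditiveAlgEquiv k k (Multiplicative ℤ)).trans
      (AddMonoidAlgebra.domCongr k k (AddEquiv.additiveMultiplicative ℤ))
  rw [ringKrullDim_eq_of_ringEquiv e.toRingEquiv]
  refine le_trans (Order.krullDim_le_of_strictMono _
    ((OrderEmbedding.subtype _).strictMono.comp (IsLocalization.primeSpectrumOrderIso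
      (Submonoid.powers (X : k[X])) (LaurentPolynomial k)).strictMono)) ?_
  show ringKrullDim k[X] ≤ 1
  rw [Polynomial.ringKrullDim_of_isNoetherianRing, ringKrullDim_eq_zero_of_field, zero_add]

variable {k}

theorem dim_line_le {C : Type u} [CommRing C] [HopfAlgebra k C] (hC : IsLine k C) : ringKrullDim C ≤ 1 := by
  rcases hC with ⟨⟨e⟩⟩ | ⟨⟨e⟩⟩
  · rw [ringKrullDim_eq_of_ringEquiv e.toAlgEquiv.toRingEquiv]; exact dim_sym_le k
  · rw [ringKrullDim_eq_of_ringEquiv e.toAlgEquiv.toRingEquiv]; exact dim_laurent_le k

/-- A line is not finite over the field. -/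
theorem not_finite_line {C : Type u} [CommRing C] [HopfAlgebra k C] (hC : IsLine k C) : ¬ Module.Finite k C := by
  intro h
  rcases hC with ⟨⟨e⟩⟩ | ⟨⟨e⟩⟩
  · haveI := Module.Finite.equiv e.toAlgEquiv.toLinearEquiv
    haveI := Module.Finite.equiv (SymmetricAlgebra.equivMvPolynomial (Module.Basis.singleton (Fin 1) k)).toLinearEquiv
    haveI : Finite (Fin 1 →₀ ℕ) := Module.Finite.finite_basis (MvPolynomial.basisMonomials (Fin 1) k)
    exact not_finite (Fin 1 →₀ ℕ)
  · haveI := Module.Finite.equiv e.toAlgEquiv.toLinearEquiv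
    haveI : Finite (Multiplicative ℤ) := Module.Finite.finite_basis ((Finsupp.basisSingleOne (R := k) (ι := Multiplicative ℤ)).map (MonoidAlgebra.coeffLinearEquiv k).symm)
    exact not_finite (Multiplicative ℤ)

variable [IsAlgClosed k] {A : Type u} [CommRing A] [HopfAlgebra k A] [Algebra.FiniteType k A] [IsDomain A]

/-- A non-trivial commutative group has a line as a quotient. -/
theorem exists_line [Coalgebra.IsCocomm k A] (hA : ¬ Function.Surjective (algebraMap k A)) :
    ∃ (C : Type u) (_ : CommRing C) (_ : HopfAlgebra k C) (φ : C →ₐc[k] A), IsLine k C ∧ Function.Injective φ := by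
  by_cases hex : ∃ x : A, Groth.Agent.Lib.DimOne16.IsPrim k x ∧ x ≠ 0
  · obtain ⟨x, hx, hx0⟩ := hex
    let f : SymmetricAlgebra k k →ₐ[k] A := SymmetricAlgebra.lift (LinearMap.toSpanSingleton k A x)
    have hf : f (SymmetricAlgebra.ι k k 1) = x := by simp [f]
    let φ : SymmetricAlgebra k k →ₐc[k] A := BialgHom.ofAlgHom f
      (SymmetricAlgebra.algHom_ext (LinearMap.ext_ring (by
        change Coalgebra.counit (R := k) (f (SymmetricAlgebra.ι k k 1)) =
          Coalgebra.counit (R := k) (SymmetricAlgebra.ι k k (1 : k))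
        rw [hf, SymmetricAlgebra.counit_ι]
        exact hx.counit)))
      (SymmetricAlgebra.algHom_ext (LinearMap.ext_ring (by
        change Algebra.TensorProduct.map f f (Coalgebra.comul (R := k) (SymmetricAlgebra.ι k k (1 : k))) =
          Coalgebra.comul (R := k) (f (SymmetricAlgebra.ι k k 1))
        rw [SymmetricAlgebra.comul_ι, map_add, Algebra.TensorProduct.map_tmul, Algebra.TensorProduct.map_tmul,
          hf, map_one, show Coalgebra.comul (R := k) x = _ from hx])))
    refine ⟨_, inferInstance, inferInstance, φ, Or.inl ⟨BialgEquiv.refl k _⟩, ?_⟩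
    let e : SymmetricAlgebra k k ≃ₐ[k] k[X] :=
      (SymmetricAlgebra.equivMvPolynomial (Module.Basis.singleton PUnit.{1} k)).trans (MvPolynomial.pUnitAlgEquiv k)
    have hφ : f = (Polynomial.aeval x).comp e.toAlgHom := SymmetricAlgebra.algHom_ext (LinearMap.ext_ring (by
      change f (SymmetricAlgebra.ι k k 1) = Polynomial.aeval x (e (SymmetricAlgebra.ι k k 1))
      rw [hf]
      have hb := SymmetricAlgebra.equivMvPolynomial_ι_apply (Module.Basis.singleton PUnit.{1} k) PUnit.unit
      rw [Module.Basis.singleton_apply] at hb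
      simp [e, hb]))
    show Function.Injective f
    rw [hφ]
    exact (hx.aeval_injective hx0).comp e.injective
  · push Not at hex
    classical
    have hdiag : HopfRep.IsDiagonalizable k A := GrothLib.NoPrim.isDiagonalizable_of_isAlgClosed hex
    obtain ⟨g, hg⟩ : ∃ g : GroupLike k A, g ≠ 1 := by
      by_contra hall
      push Not at hall
      refine hA fun a => ?_
      have ha : a ∈ Submodule.span k {a : A | IsGroupLikeElem k a} := by rw [hdiag]; trivial
      have hle : Submodule.span k {a : A | IsGroupLikeElem k a} ≤ Submodule.span k ({1} : Set A) :=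
        Submodule.span_mono fun c hc => congrArg GroupLike.val (hall ⟨c, hc⟩)
      obtain ⟨c, rfl⟩ := Submodule.mem_span_singleton.1 (hle ha)
      exact ⟨c, Algebra.algebraMap_eq_smul_one c⟩
    have hinj : Function.Injective (zpowersHom (GroupLike k A) g) := by
      refine (injective_iff_map_eq_one _).2 fun m hm => ?_
      by_contra hm0
      obtain ⟨j, hj, hgj⟩ : ∃ j : ℕ, 0 < j ∧ g ^ j = 1 := by
        have hm' : g ^ m.toAdd = 1 := hm
        have h0 : m.toAdd ≠ 0 := fun h => hm0 (by rw [← ofAdd_toAdd m, h, ofAdd_zero])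
        exact ⟨m.toAdd.natAbs, Int.natAbs_pos.2 h0, pow_natAbs_eq_one.2 hm'⟩
      have hint : IsIntegral k (g : A) := IsIntegral.of_pow hj (by
        rw [← GroupLike.val_pow, hgj, GroupLike.val_one]; exact isIntegral_one)
      haveI : Algebra.IsIntegral k (Algebra.adjoin k {(g : A)}) :=
        Algebra.IsIntegral.adjoin (by rintro y rfl; exact hint)
      obtain ⟨c, hc⟩ := (IsAlgClosed.algebraMap_bijective_of_isIntegral (k := k)
        (K := Algebra.adjoin k {(g : A)})).2 ⟨_, Algebra.subset_adjoin rfl⟩
      have hc' : algebraMap k A c = (g : A) := congrArg Subtype.val hc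
      have hcc : c = 1 := by
        have := g.2.1
        rw [← hc', Bialgebra.counit_algebraMap] at this
        exact this
      exact hg (GroupLike.val_injective (by rw [← hc', hcc, map_one, GroupLike.val_one]))
    let Φ : MonoidAlgebra k (Multiplicative ℤ) →ₐc[k] A :=
      (MonoidAlgebra.liftGroupLikeBialgHom (R := k) (A := A)).comp
        (MonoidAlgebra.mapDomainBialgHom k (zpowersHom (GroupLike k A) g))
    exact ⟨_, inferInstance, inferInstance, Φ, Or.inr ⟨BialgEquiv.refl k _⟩,
      (GrothLib.CharFG28.liftGroupLike_injective k A).comp (MonoidAlgebra.mapDomain_injective hinj)⟩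

/-- A finite cover of a line is a line. -/
theorem isLine_of_finite {C : Type u} [CommRing C] [HopfAlgebra k C] (hC : IsLine k C) (φ : C →ₐc[k] A)
    (hinj : Function.Injective φ) (hfin : (φ : C →+* A).Finite) : IsLine k A := by
  letI : Algebra C A := (φ : C →+* A).toAlgebra
  haveI : Module.Finite C A := hfin
  have hle : ringKrullDim A ≤ 1 := (GrothLib.Dim.ringKrullDim_le_of_isIntegral C A).trans (dim_line_le hC)
  have hne : ¬ IsField A := by
    intro hf
    letI := hf.toField
    have hfA : Module.Finite k A := finite_of_finite_type_of_isJacobsonRing k A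
    exact not_finite_line hC (Module.Finite.of_injective (φ : C →ₗ[k] A) hinj)
  haveI : Ring.KrullDimLE 1 A := (Ring.krullDimLE_iff).2 hle
  have hdim : ringKrullDim A = 1 := by
    refine le_antisymm hle ?_
    obtain ⟨n, -, hn⟩ := GrothLib.Dim.exists_nat_trdeg_eq_and_ringKrullDim_eq k A
    rw [hn]
    rcases Nat.eq_zero_or_pos n with rfl | hn0
    · haveI : Ring.KrullDimLE 0 A := (Ring.krullDimLE_iff).2 (le_of_eq (by simpa using hn))
      exact absurd Ring.KrullDimLE.isField_of_isDomain hne
    · exact_mod_cast hn0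
  have hconn : ∀ e : A, IsIdempotentElem e → e = 0 ∨ e = 1 := fun e he => IsIdempotentElem.iff_eq_zero_or_one.1 he
  exact (Groth.Agent.S7976.result k A hconn hdim).symm

end GrothLib.SplitTors24
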