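import Groth.Agent.Lib.SplitTors24.Coord
import Groth.Agent.Lib.SplitTors24.Bridge
import Groth.Agent.Lib.AffMono14.Basic
import Groth.Agent.Lib.GrpExt19.ConstSplit
import Groth.Agent.Lib.FixQuot24.Main
import Groth.Agent.Lib.TorusPrim24.Main
import Groth.Agent.S3030

/-!
# A connected commutative linear group over an algebraically closed field has a split quotient
-/

set_option autoImplicit false
set_option linter.all false
set_option backward.isDefEq.respectTransparency false

universe u

open CategoryTheory CategoryTheory.Limits MonoidalCategory CartesianMonoidalCategory MonObj GrpObj AlgebraicGeometry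
open scoped TensorProduct

namespace GrothLib.SplitTors24

open GrothLib.MultHopf14

variable {k : Type u} [Field k]

local notation "S₀" => Spec (CommRingCat.of k)

/-- Translation by a rational point. -/
noncomputable def trans {G : Over S₀} [GrpObj G] (c : 𝟙_ (Over S₀) ⟶ G) : G ≅ G where
  hom := (toUnit G ≫ c) * 𝟙 G
  inv := (toUnit G ≫ c⁻¹) * 𝟙 G
  hom_inv_id := by
    simp only [MonObj.comp_mul, Category.comp_id, ← Category.assoc, toUnit_unique _ (toUnit G)]
    rw [← _root_.mul_assoc, ← MonObj.comp_mul, inv_mul_cancel, MonObj.comp_one, _root_.one_mul]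
  inv_hom_id := by
    simp only [MonObj.comp_mul, Category.comp_id, ← Category.assoc, toUnit_unique _ (toUnit G)]
    rw [← _root_.mul_assoc, ← MonObj.comp_mul, mul_inv_cancel, MonObj.comp_one, _root_.one_mul]

theorem comp_trans {G : Over S₀} [GrpObj G] (c d : 𝟙_ (Over S₀) ⟶ G) : d ≫ (trans c).hom = c * d := by
  simp only [trans, MonObj.comp_mul, Category.comp_id, ← Category.assoc, toUnit_unique _ (𝟙 (𝟙_ (Over S₀))),
    Category.id_comp]

variable [IsAlgClosed k]

/-- Finitely many classes of rational points modulo a subgroup with open image. -/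
theorem exists_finite_reps {K U : Over S₀} [GrpObj K] [GrpObj U] [LocallyOfFiniteType K.hom]
    [LocallyOfFiniteType U.hom] [QuasiCompact K.hom] (r : U ⟶ K) [IsMonHom r]
    (ho : IsOpen (Set.range r.left)) :
    ∃ s : Set (𝟙_ (Over S₀) ⟶ K), s.Finite ∧ ∀ c : 𝟙_ (Over S₀) ⟶ K, ∃ c₀ ∈ s,
      ∃ n : 𝟙_ (Over S₀) ⟶ U, c = c₀ * (n ≫ r) := by
  classical
  haveI : CompactSpace K.left := QuasiCompact.compactSpace_of_compactSpace K.hom
  haveI : JacobsonSpace K.left := LocallyOfFiniteType.jacobsonSpace (Y := Spec _) K.hom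
  let p₀ : ↥(𝟙_ (Over S₀)).left := IsLocalRing.closedPoint k
  haveI : ∀ c : 𝟙_ (Over S₀) ⟶ K, IsIso (trans c).hom.left := fun c =>
    inferInstanceAs (IsIso ((Over.forget _).map (trans c).hom))
  let O : (𝟙_ (Over S₀) ⟶ K) → Set K.left := fun c => (trans c).hom.left '' Set.range r.left
  have hO : ∀ c, IsOpen (O c) := fun c => (trans c).hom.left.homeomorph.isOpenMap _ ho
  have hmem : ∀ c, c.left p₀ ∈ O c := fun c => by
    refine ⟨(1 : 𝟙_ (Over S₀) ⟶ K).left p₀, ⟨(1 : 𝟙_ (Over S₀) ⟶ U).left p₀, ?_⟩, ?_⟩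
    · rw [← Scheme.Hom.comp_apply, ← Over.comp_left, MonObj.one_comp]
    · rw [← Scheme.Hom.comp_apply, ← Over.comp_left, comp_trans, _root_.mul_one]
  have hcov : Set.univ ⊆ ⋃ c, O c := by
    intro z _
    by_contra hz
    obtain ⟨y, hy, hyc⟩ := nonempty_inter_closedPoints (Z := (⋃ c, O c)ᶜ) ⟨z, hz⟩
      (isOpen_iUnion hO).isClosed_compl.isLocallyClosed
    obtain ⟨c, hc⟩ := Rigidity.exists_point_over K y hyc
    exact hy (Set.mem_iUnion.2 ⟨c, hc ▸ hmem c⟩)
  obtain ⟨t, ht⟩ := isCompact_univ.elim_finite_subcover O hO hcov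
  refine ⟨↑t, t.finite_toSet, fun c => ?_⟩
  obtain ⟨c₀, hc₀, u, hu, hcu⟩ := Set.mem_iUnion₂.1 (ht (Set.mem_univ (c.left p₀)))
  refine ⟨c₀, hc₀, ?_⟩
  obtain ⟨v, hv⟩ := hu
  let d : 𝟙_ (Over S₀) ⟶ K := c₀⁻¹ * c
  have hd : d.left p₀ = u := by
    have e : d ≫ (trans c₀).hom = c := by rw [comp_trans, mul_inv_cancel_left]
    refine (trans c₀).hom.left.homeomorph.injective ?_
    show (trans c₀).hom.left (d.left p₀) = (trans c₀).hom.left u
    rw [← Scheme.Hom.comp_apply, ← Over.comp_left, e, hcu]
  have hcl : IsClosed ({u} : Set K.left) := by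
    rw [← hd]; exact isClosed_singleton_pt d
  haveI : JacobsonSpace U.left := LocallyOfFiniteType.jacobsonSpace (Y := Spec _) U.hom
  obtain ⟨v', hv', hv'c⟩ := nonempty_inter_closedPoints (Z := r.left ⁻¹' {u}) ⟨v, hv⟩
    (hcl.preimage r.left.continuous).isLocallyClosed
  obtain ⟨n, hn⟩ := Rigidity.exists_point_over U v' hv'c
  refine ⟨n, ?_⟩
  have : n ≫ r = d := NeronCompGrp24.pt_ext _ _ (by
    show (n ≫ r).left p₀ = d.left p₀
    rw [hd, Over.comp_left, Scheme.Hom.comp_apply, hn]
    exact hv')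
  rw [this, mul_inv_cancel_left]
where
  isClosed_singleton_pt {K : Over S₀} [LocallyOfFiniteType K.hom] (d : 𝟙_ (Over S₀) ⟶ K) :
      IsClosed ({d.left (IsLocalRing.closedPoint k)} : Set K.left) :=
    (pointEquivClosedPoint (K := k) K.hom ⟨d.left, Over.w d⟩).2

/-- A non-trivial connected commutative linear group has a one-dimensional split quotient with smooth connected kernel. -/
theorem exists_step (L : Over S₀) [GrpObj L] [IsCommMonObj L] [Smooth L.hom] [ConnectedSpace ↥L.left]
    [IsAffine L.left] (hL : ¬ Subsingleton L.left) :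
    ∃ (N : Over S₀) (_ : GrpObj N) (_ : IsCommMonObj N) (i : N ⟶ L) (Q : Over S₀) (_ : GrpObj Q) (q : L ⟶ Q),
      IsMonHom i ∧ IsClosedImmersion i.left ∧ Smooth N.hom ∧ ConnectedSpace ↥N.left ∧ IsAffine N.left ∧
      Set.range i.left ≠ Set.univ ∧ IsMonHom q ∧ Flat q.left ∧ Surjective q.left ∧ AlgGrp.IsKernel i q ∧
      (Nonempty (Grp.mk Q ≅ Grp.mk (Red.Ga S₀)) ∨ Nonempty (Grp.mk Q ≅ Grp.mk (Red.Gm S₀))) := by
  classical
  haveI := IsogGaGm24.isIntegral_of_smooth L
  obtain ⟨A, _, _, ⟨e⟩⟩ := exists_hopf L (isAffineHom_of_isAffine _)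
  haveI := TorusPrim24.isDomain_of_iso e
  haveI : Coalgebra.IsCocomm k A := TorusPrim24.isCocomm_of_iso e
  let iA : specGrp (R := k) A ≅ L := (Grp.forget _).mapIso e
  haveI : IsIso iA.hom.left := inferInstanceAs (IsIso ((Over.forget _).map iA.hom))
  haveI : Algebra.FiniteType k A := by
    have : LocallyOfFiniteType (specGrp (R := k) A).hom := by rw [← Over.w iA.hom]; infer_instance
    exact RingHom.finiteType_algebraMap.1 ((HasRingHomProperty.Spec_iff (P := @LocallyOfFiniteType)).1 this)
  obtain ⟨C, _, _, φ, hC, hφ⟩ := exists_line (A := A) (fun hs => hL (by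
    haveI : Subsingleton (PrimeSpectrum A) := ⟨fun P Q =>
      (PrimeSpectrum.comap_injective_of_surjective (algebraMap k A) hs) (Subsingleton.elim _ _)⟩
    haveI : Subsingleton ↥(specGrp (R := k) A).left := ‹Subsingleton (PrimeSpectrum A)›
    exact iA.hom.left.surjective.subsingleton))
  -- the line
  let G₁ := specGrp (R := k) C
  haveI : IsAffine G₁.left := isAffine_Spec _
  haveI : IsDomain C := Function.Injective.isDomain φ hφ
  let hg : Grp.mk (specGrp (R := k) A) ⟶ Grp.mk G₁ :=
    (hopfSpec (CommRingCat.of k)).map (X := Opposite.op (CommHopfAlgCat.of k A))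
      (Y := Opposite.op (CommHopfAlgCat.of k C)) (CommHopfAlgCat.ofHom φ).op
  let χg : Grp.mk L ⟶ Grp.mk G₁ := e.inv ≫ hg
  let χ : L ⟶ G₁ := χg.hom.hom
  haveI : IsMonHom χ := χg.hom.isMonHom_hom
  haveI : IsIso iA.inv.left := inferInstanceAs (IsIso ((Over.forget _).map iA.inv))
  have hχl : χ.left = iA.inv.left ≫ Spec.map (CommRingCat.ofHom (φ : C →+* A)) := rfl
  haveI : LocallyOfFiniteType G₁.hom := by
    haveI : Algebra.FiniteType k C := by
      rcases hC with ⟨⟨ec⟩⟩ | ⟨⟨ec⟩⟩
      · exact ((inferInstance : Algebra.FiniteType k (MvPolynomial (Fin 1) k)).equiv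
          (SymmetricAlgebra.equivMvPolynomial (Module.Basis.singleton (Fin 1) k)).symm).equiv ec.toAlgEquiv.symm
      · exact (inferInstance : Algebra.FiniteType k (MonoidAlgebra k (Multiplicative ℤ))).equiv ec.toAlgEquiv.symm
    exact (HasRingHomProperty.Spec_iff (P := @LocallyOfFiniteType)).2 (RingHom.finiteType_algebraMap.2 inferInstance)
  haveI : IsAffineHom χ.left := inferInstance
  haveI hsurj : Surjective χ.left := by
    refine ⟨Set.range_eq_univ.1 ?_⟩
    rw [← (NeronCompGrp24.isClosed_range_hom χ).closure_eq, hχl]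
    have hd : DenseRange (Spec.map (CommRingCat.ofHom (φ : C →+* A))) :=
      (PrimeSpectrum.denseRange_comap_iff_ker_le_nilRadical _).2 (by
        show RingHom.ker (φ : C →+* A) ≤ nilradical C
        rw [(RingHom.injective_iff_ker_eq_bot _).1 (show Function.Injective (φ : C →+* A) from hφ)]; exact bot_le)
    have hd' : DenseRange ((iA.inv.left ≫ Spec.map (CommRingCat.ofHom (φ : C →+* A))).base) :=
      hd.comp iA.inv.left.surjective.denseRange (Spec.map (CommRingCat.ofHom (φ : C →+* A))).continuous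
    exact hd'.closure_range
  haveI : IsIntegral G₁.left := inferInstanceAs (IsIntegral (Spec (CommRingCat.of C)))
  haveI : Flat χ.left := GrpSchField.flat_hom χ
  -- the kernel and its reduced neutral component
  have hi : AlgGrp.IsKernel (pullback.fst χ η[G₁]) χ := by
    have := IsPullback.of_hasPullback χ η[G₁]
    rwa [toUnit_unique (pullback.snd χ η[G₁]) (toUnit _)] at this
  obtain ⟨_, hmon⟩ := GrpDeligne.exists_grpObj_kernel χ _ hi
  haveI := hmon
  let K := pullback χ η[G₁]
  let κ : K ⟶ L := pullback.fst χ η[G₁]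
  haveI : IsClosedImmersion κ.left := by
    haveI : IsClosedImmersion η[G₁].left := by
      haveI : IsSeparated G₁.hom := inferInstance
      haveI : IsClosedImmersion (η[G₁].left ≫ G₁.hom) := by
        rw [Over.w]; exact inferInstanceAs (IsClosedImmersion (𝟙 S₀))
      exact IsClosedImmersion.of_comp _ G₁.hom
    exact MorphismProperty.of_isPullback ((IsPullback.of_hasPullback χ η[G₁]).map (Over.forget S₀)).flip ‹_›
  haveI : LocallyOfFiniteType K.hom := by rw [← Over.w κ]; infer_instance
  haveI : QuasiCompact K.hom := by rw [← Over.w κ]; infer_instance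
  obtain ⟨R, _, rR, _, _, _, hRs⟩ := AffMono14.exists_red K
  haveI := hRs
  haveI : LocallyOfFiniteType R.hom := by rw [← Over.w rR]; infer_instance
  obtain ⟨U, _, c, _, _, hUc, hUi, _⟩ := GrpExt19.exists_neutral R
  haveI := hUi; haveI := hUc
  haveI : IsReduced U.left := isReduced_of_isOpenImmersion c.left
  haveI : GeometricallyReduced U.hom := GrothLib.UnitProd.geometricallyReduced_of_isReduced U.hom
  haveI : Smooth U.hom := by
    haveI : GrpObj (Over.mk U.hom) := inferInstanceAs (GrpObj U)
    exact smooth_of_grpObj U.hom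
  haveI : QuasiCompact U.hom := (quasiCompact_iff_compactSpace U.hom).mpr inferInstance
  haveI : QuasiCompact c.left := by
    haveI : QuasiCompact (c.left ≫ R.hom) := by rw [Over.w c]; infer_instance
    haveI : IsSeparated R.hom := GrothLib.GrpSchField.isSeparated R
    exact QuasiCompact.of_comp c.left R.hom
  haveI : IsClosedImmersion c.left :=
    IsClosedImmersion.of_isPreimmersion _ (NeronCompGrp24.isClosed_range_hom c)
  let r : U ⟶ K := c ≫ rR
  let i : U ⟶ L := r ≫ κ
  haveI : IsClosedImmersion r.left := by rw [Over.comp_left]; infer_instance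
  haveI : IsClosedImmersion i.left := by rw [Over.comp_left]; infer_instance
  haveI : Mono i := (Over.forget _).mono_of_mono_map (inferInstanceAs (Mono i.left))
  haveI : IsCommMonObj U := by
    refine ⟨?_⟩
    rw [← cancel_mono i, Category.assoc, IsMonHom.mul_hom, ← Category.assoc, ← BraidedCategory.braiding_naturality,
      Category.assoc, IsCommMonObj.mul_comm]
  have ho : IsOpen (Set.range r.left) := by
    rw [Over.comp_left, Scheme.Hom.comp_base, TopCat.coe_comp, Set.range_comp]
    have hR : IsHomeomorph rR.left :=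
      isHomeomorph_iff_isEmbedding_surjective.2 ⟨rR.left.isEmbedding, rR.left.surjective⟩
    exact hR.isOpenMap _ c.left.isOpenEmbedding.isOpen_range
  haveI : ConnectedSpace U.left := inferInstance
  haveI : IsAffine U.left := isAffine_of_isAffineHom i.left
  have hne : Set.range i.left ≠ Set.univ := by
    intro h
    haveI : Surjective i.left := ⟨Set.range_eq_univ.1 h⟩
    haveI : Surjective κ.left := by
      haveI : Surjective (r.left ≫ κ.left) := ‹Surjective i.left›
      exact Surjective.of_comp r.left κ.left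
    have hsub : Subsingleton G₁.left := by
      haveI : Surjective (κ.left ≫ χ.left) := inferInstance
      have hw : κ.left ≫ χ.left = (toUnit K).left ≫ η[G₁].left := by
        rw [← Over.comp_left, ← Over.comp_left, hi.w]
      have hs : Function.Surjective ((toUnit K).left ≫ η[G₁].left) := hw ▸ (κ.left ≫ χ.left).surjective
      haveI : Subsingleton ↥(𝟙_ (Over S₀)).left := inferInstanceAs (Subsingleton (PrimeSpectrum k))
      exact (show Function.Surjective η[G₁].left from fun z => by
        obtain ⟨w, hw⟩ := hs z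
        exact ⟨(toUnit K).left w, by rwa [← Scheme.Hom.comp_apply]⟩).subsingleton
    haveI : Subsingleton (PrimeSpectrum C) := hsub
    have hfld : IsField C := by
      haveI : Ring.KrullDimLE 0 C := Ring.KrullDimLE.mk₀ fun I hI => by
        obtain ⟨M, hM, hIM⟩ := Ideal.exists_le_maximal I hI.ne_top
        have := congrArg PrimeSpectrum.asIdeal (Subsingleton.elim (⟨I, hI⟩ : PrimeSpectrum C) ⟨M, hM.isPrime⟩)
        exact (show I = M from this) ▸ hM
      exact Ring.KrullDimLE.isField_of_isDomain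
    letI := hfld.toField
    haveI : Algebra.FiniteType k C :=
      RingHom.finiteType_algebraMap.1 ((HasRingHomProperty.Spec_iff (P := @LocallyOfFiniteType)).1 ‹LocallyOfFiniteType G₁.hom›)
    exact not_finite_line hC (finite_of_finite_type_of_isJacobsonRing k C)
  -- the quotient
  have hN : AlgGrp.IsNormalHom i := fun {X} g h => ⟨h, by rw [mul_comm g, mul_inv_cancel_right]⟩
  haveI : Flat L.hom := inferInstance
  haveI : Flat U.hom := inferInstance
  obtain ⟨Q, _, q, _, hqf, hqs, hqp, hker, hQsep, -, hQsm⟩ :=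
    Groth.Agent.S3030.result k U L i hN
  haveI := hqf; haveI := hqs; haveI := hqp; haveI := hQsep
  haveI : Smooth Q.hom := hQsm inferInstance
  haveI : ConnectedSpace ↥Q.left := q.left.surjective.connectedSpace q.left.continuous
  haveI := IsogGaGm24.isIntegral_of_smooth Q
  haveI : QuasiCompact q.left := by
    haveI : QuasiCompact (q.left ≫ Q.hom) := by rw [Over.w q]; infer_instance
    exact QuasiCompact.of_comp q.left Q.hom
  haveI : QuasiCompact Q.hom := by
    haveI : CompactSpace L.left := inferInstance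
    haveI : CompactSpace Q.left := ⟨q.left.surjective.range_eq ▸ isCompact_range q.left.continuous⟩
    exact (quasiCompact_iff_compactSpace Q.hom).mpr inferInstance
  have hiχ : i ≫ χ = 1 := by
    show (r ≫ κ) ≫ χ = 1
    rw [Category.assoc, GrpDeligne.ker_comp_eq_one hi, MonObj.comp_one]
  obtain ⟨ψ, _, hqψ⟩ := GrpDeligne.exists_factor q i hker χ hiχ
  haveI : Surjective ψ.left := by
    haveI : Surjective (q.left ≫ ψ.left) := by rw [← Over.comp_left, hqψ]; infer_instance
    exact Surjective.of_comp q.left ψ.left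
  -- the induced isogeny is finite
  have hj : AlgGrp.IsKernel (pullback.fst ψ η[G₁]) ψ := by
    have := IsPullback.of_hasPullback ψ η[G₁]
    rwa [toUnit_unique (pullback.snd ψ η[G₁]) (toUnit _)] at this
  let M := pullback ψ η[G₁]
  let j : M ⟶ Q := pullback.fst ψ η[G₁]
  haveI : Mono j := GrpDeligne.mono_of_isKernel hj
  haveI : LocallyOfFiniteType ψ.left := by
    haveI : LocallyOfFiniteType (ψ.left ≫ G₁.hom) := by rw [Over.w ψ]; infer_instance
    exact locallyOfFiniteType_of_comp ψ.left G₁.hom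
  haveI : QuasiCompact ψ.left := by
    haveI : QuasiCompact (ψ.left ≫ G₁.hom) := by rw [Over.w ψ]; infer_instance
    exact QuasiCompact.of_comp ψ.left G₁.hom
  have hsq : IsPullback (pullback.fst ψ η[G₁]).left (pullback.snd ψ η[G₁]).left ψ.left η[G₁].left :=
    (IsPullback.of_hasPullback ψ η[G₁]).map (Over.forget S₀)
  haveI : LocallyOfFiniteType M.hom := by
    rw [← Over.w (pullback.snd ψ η[G₁])]
    haveI : LocallyOfFiniteType (pullback.snd ψ η[G₁]).left := MorphismProperty.of_isPullback hsq ‹_›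
    haveI : LocallyOfFiniteType (𝟙_ (Over S₀)).hom := inferInstanceAs (LocallyOfFiniteType (𝟙 S₀))
    infer_instance
  haveI : QuasiCompact M.hom := by
    rw [← Over.w (pullback.snd ψ η[G₁])]
    haveI : QuasiCompact (pullback.snd ψ η[G₁]).left := MorphismProperty.of_isPullback hsq ‹_›
    haveI : QuasiCompact (𝟙_ (Over S₀)).hom := inferInstanceAs (QuasiCompact (𝟙 S₀))
    infer_instance
  obtain ⟨s, hsf, hs⟩ := exists_finite_reps r ho
  have hMfin : (Set.univ : Set (𝟙_ (Over S₀) ⟶ M)).Finite := by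
    refine ((hsf.image fun c => c ≫ κ ≫ q).preimage (f := fun m : 𝟙_ (Over S₀) ⟶ M => m ≫ j)
      (fun a _ b _ h => (cancel_mono j).1 h)).subset fun m _ => ?_
    let p₀ : ↥(𝟙_ (Over S₀)).left := IsLocalRing.closedPoint k
    haveI : JacobsonSpace L.left := LocallyOfFiniteType.jacobsonSpace (Y := Spec _) L.hom
    obtain ⟨y, hy⟩ := q.left.surjective ((m ≫ j).left p₀)
    have hcl : IsClosed (q.left ⁻¹' {(m ≫ j).left p₀}) :=
      (exists_finite_reps.isClosed_singleton_pt (m ≫ j)).preimage q.left.continuous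
    obtain ⟨y', hy', hyc⟩ := nonempty_inter_closedPoints (Z := q.left ⁻¹' {(m ≫ j).left p₀}) ⟨y, hy⟩
      hcl.isLocallyClosed
    obtain ⟨l, hl⟩ := Rigidity.exists_point_over L y' hyc
    have hlq : l ≫ q = m ≫ j := NeronCompGrp24.pt_ext _ _ (by
      show (l ≫ q).left p₀ = _
      rw [Over.comp_left, Scheme.Hom.comp_apply, hl]
      exact hy')
    have hlχ : l ≫ χ = 1 := by
      rw [← hqψ, ← Category.assoc, hlq, Category.assoc, GrpDeligne.ker_comp_eq_one hj, MonObj.comp_one]
    obtain ⟨c, hc⟩ := GrpDeligne.exists_lift_ker hi l hlχ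
    obtain ⟨c₀, hc₀, n, hn⟩ := hs c
    refine ⟨c₀, hc₀, ?_⟩
    show c₀ ≫ κ ≫ q = m ≫ j
    rw [← hlq, ← hc, hn, MonObj.mul_comp, MonObj.mul_comp, Category.assoc n, Category.assoc n]
    rw [show (r ≫ κ) ≫ q = 1 from GrpDeligne.ker_comp_eq_one hker,
      MonObj.comp_one, _root_.mul_one, Category.assoc]
  haveI : IsFinite M.hom := by
    haveI : JacobsonSpace M.left := LocallyOfFiniteType.jacobsonSpace (Y := Spec _) M.hom
    haveI : Subsingleton ↥S₀ := inferInstanceAs (Subsingleton (PrimeSpectrum k))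
    haveI : LocallyQuasiFinite M.hom := by
      refine FixQuot24.locallyQuasiFinite_of_closedPoints M.hom (fun x _ => ?_) (fun x _ => ?_)
      · rw [show ({M.hom x} : Set ↥S₀) = Set.univ from Set.eq_univ_of_forall fun z => Subsingleton.elim _ _]
        exact isClosed_univ
      · refine (hMfin.image fun m => m.left (IsLocalRing.closedPoint k)).subset fun y hy => ?_
        obtain ⟨m, hm⟩ := Rigidity.exists_point_over M y hy.1
        exact ⟨m, trivial, hm⟩
    haveI : IsLocallyArtinian S₀ := inferInstance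
    exact IsFinite.of_locallyQuasiFinite M.hom
  haveI : IsLocallyNoetherian G₁.left := LocallyOfFiniteType.isLocallyNoetherian G₁.hom
  haveI : Flat ψ.left := GrpSchField.flat_hom ψ
  haveI : IsFinite ψ.left := by
    have sq := (Rigidity.isPullback_kernelPair ψ _ hj).map (Over.forget S₀)
    haveI : IsFinite (snd M Q).left :=
      inferInstanceAs (IsFinite (Limits.pullback.snd M.hom Q.hom))
    exact AlgSp.fppfDescends_isFinite _ _ _ _ sq ‹Flat ψ.left›
      (inferInstance : LocallyOfFinitePresentation ψ.left) ‹Surjective ψ.left› ‹_›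
  haveI : IsAffine Q.left := isAffine_of_isAffineHom ψ.left
  -- classification
  obtain ⟨B, _, _, ⟨eB⟩⟩ := exists_hopf Q (isAffineHom_of_isAffine _)
  haveI := TorusPrim24.isDomain_of_iso eB
  let iB : specGrp (R := k) B ≅ Q := (Grp.forget _).mapIso eB
  haveI : IsIso iB.hom.left := inferInstanceAs (IsIso ((Over.forget _).map iB.hom))
  haveI : Algebra.FiniteType k B := by
    have : LocallyOfFiniteType (specGrp (R := k) B).hom := by rw [← Over.w iB.hom]; infer_instance
    exact RingHom.finiteType_algebraMap.1 ((HasRingHomProperty.Spec_iff (P := @LocallyOfFiniteType)).1 this)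
  let qg : (hopfSpec (CommRingCat.of k)).obj (Opposite.op (CommHopfAlgCat.of k B)) ⟶
      (hopfSpec (CommRingCat.of k)).obj (Opposite.op (CommHopfAlgCat.of k C)) :=
    eB.hom ≫ (Grp.ofHom ψ : Grp.mk Q ⟶ Grp.mk G₁)
  haveI : (hopfSpec (CommRingCat.of k)).Full := hopfSpec.instFull
  obtain ⟨ω, hω⟩ := (hopfSpec (CommRingCat.of k)).map_surjective qg
  let φB : C →ₐc[k] B := ω.unop.hom
  have h1 : Spec.map (CommRingCat.ofHom (φB : C →+* B)) = iB.hom.left ≫ ψ.left :=
    congrArg (fun w => w.hom.hom.left) hω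
  haveI : IsFinite (Spec.map (CommRingCat.ofHom (φB : C →+* B))) := by rw [h1]; infer_instance
  haveI : Surjective (Spec.map (CommRingCat.ofHom (φB : C →+* B))) := by rw [h1]; infer_instance
  have hfin : (φB : C →+* B).Finite :=
    (IsFinite.SpecMap_iff (f := CommRingCat.ofHom (φB : C →+* B))).1 inferInstance
  have hinj : Function.Injective φB := by
    refine (injective_iff_map_eq_zero _).2 fun a ha => IsReduced.eq_zero a ?_
    rw [nilpotent_iff_mem_prime]
    intro P hP
    obtain ⟨P', hP'⟩ := (Spec.map (CommRingCat.ofHom (φB : C →+* B))).surjective ⟨P, hP⟩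
    have : P = P'.asIdeal.comap (φB : C →+* B) := (congrArg PrimeSpectrum.asIdeal hP').symm
    rw [this, Ideal.mem_comap]
    show φB a ∈ P'.asIdeal
    rw [ha]
    exact zero_mem _
  have hQ : Nonempty (Grp.mk Q ≅ Grp.mk (Red.Ga S₀)) ∨ Nonempty (Grp.mk Q ≅ Grp.mk (Red.Gm S₀)) := by
    rcases isLine_of_finite hC φB hinj hfin with ⟨⟨w⟩⟩ | ⟨⟨w⟩⟩
    · obtain ⟨e₂⟩ := grpIso_of_bialgEquiv w
      obtain ⟨e₃⟩ := iso_Ga (k := k)
      exact Or.inl ⟨eB.symm ≪≫ e₂.symm ≪≫ e₃⟩
    · obtain ⟨e₂⟩ := grpIso_of_bialgEquiv w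
      obtain ⟨e₃⟩ := iso_Gm (k := k)
      exact Or.inr ⟨eB.symm ≪≫ e₂.symm ≪≫ e₃⟩
  exact ⟨U, inferInstance, inferInstance, i, Q, inferInstance, q, inferInstance, inferInstance, inferInstance,
    inferInstance, inferInstance, hne, inferInstance, inferInstance, inferInstance, hker, hQ⟩

end GrothLib.SplitTors24
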